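import Mathlib
import Cfsg.Agent.OutPO.Field
import Cfsg.Agent.AutPSL.Semilinear
import Cfsg.Agent.Forms.BaseChange

/-!
Rational points of similarity groups of forms with coefficients in a subfield.
-/

set_option autoImplicit false
set_option linter.unusedSectionVars false

namespace Cfsg.Agent.OutPO

open Matrix QuadraticMap
open Cfsg.Agent.AutPSL (twistNorm exists_descent)
open Cfsg.Agent.Classical (BNondeg)
open Cfsg.Agent.Forms (quadraticForm_ext_basis)

universe u v

variable {F : Type u} [Field F] {F₀ : Type v} [Field F₀] (e : F₀ →+* F)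
  {ι : Type} [Fintype ι] [DecidableEq ι]

/-- A rational vector in coordinates. -/
def incV (w : ι → F₀) : ι → F := fun i => e (w i)

theorem incV_single (i : ι) : incV e (Pi.single i 1) = Pi.single i 1 := by
  funext k
  simp [incV, Pi.single_apply, apply_ite e]

theorem incV_add (v w : ι → F₀) : incV e (v + w) = incV e v + incV e w :=
  funext fun i => map_add e _ _

theorem map_mulVec_inc (g : GL ι F₀) (w : ι → F₀) :
    ((GeneralLinearGroup.map e g : GL ι F) : Matrix ι ι F) *ᵥ incV e w =
      incV e ((g : Matrix ι ι F₀) *ᵥ w) :=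
  funext fun i => (RingHom.map_mulVec e (g : Matrix ι ι F₀) w i).symm

/-- Quadratic forms which agree on rational vectors are equal. -/
theorem qf_ext_rational {Q R : QuadraticForm F (ι → F)}
    (h : ∀ w : ι → F₀, Q (incV e w) = R (incV e w)) : Q = R := by
  refine quadraticForm_ext_basis (Pi.basisFun F ι) (fun i => ?_) fun i j => ?_
  · rw [Pi.basisFun_apply, ← incV_single e, h]
  · rw [Pi.basisFun_apply, Pi.basisFun_apply, ← incV_single e i, ← incV_single e j]
    simp only [polar, ← incV_add, h]

variable {f : (ι → F) → F} {f₀ : (ι → F₀) → F₀}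
  (Qf : QuadraticForm F (ι → F)) (hQ : ∀ v, Qf v = f v) (hf : ∀ w, f (incV e w) = e (f₀ w))

include Qf hQ hf in
theorem sim_of_rational {g : GL ι F} {c : F}
    (h : ∀ w : ι → F₀, f ((g : Matrix ι ι F) *ᵥ incV e w) = c * e (f₀ w)) :
    ∀ v, f ((g : Matrix ι ι F) *ᵥ v) = c * f v := by
  intro v
  have hcomp : Qf.comp (Matrix.toLin' (g : Matrix ι ι F)) = c • Qf := qf_ext_rational e fun w => by
    rw [QuadraticMap.comp_apply, QuadraticMap.smul_apply, Matrix.toLin'_apply, hQ, hQ, hf, h,
      smul_eq_mul]
  have := DFunLike.congr_fun hcomp v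
  rw [QuadraticMap.comp_apply, QuadraticMap.smul_apply, Matrix.toLin'_apply, hQ, hQ,
    smul_eq_mul] at this
  exact this

include Qf hQ hf in
theorem map_mem_iso_iff (g : GL ι F₀) :
    GeneralLinearGroup.map e g ∈ Cfsg.isometryGroup F f ↔ g ∈ Cfsg.isometryGroup F₀ f₀ := by
  rw [Classical.mem_isoGroup, Classical.mem_isoGroup]
  constructor
  · intro h w
    apply e.injective
    rw [← hf, ← hf, ← map_mulVec_inc, h]
  · intro h v
    rw [← one_mul (f v)]
    refine sim_of_rational e Qf hQ hf (fun w => ?_) v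
    rw [map_mulVec_inc, hf, h, one_mul]

theorem det_map (g : GL ι F₀) :
    GeneralLinearGroup.det (GeneralLinearGroup.map e g) =
      Units.map e.toMonoidHom (GeneralLinearGroup.det g) :=
  Units.ext (RingHom.map_det e (g : Matrix ι ι F₀)).symm

/-- A matrix with rational entries comes from the subfield. -/
theorem exists_rational_gl {σ : F ≃+* F} (he : ∀ a : F, σ a = a ↔ ∃ b, e b = a) {g : GL ι F}
    (hg : GeneralLinearGroup.map σ.toRingHom g = g) :
    ∃ g₀ : GL ι F₀, GeneralLinearGroup.map e g₀ = g := by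
  choose b hb using fun i j => (he ((g : Matrix ι ι F) i j)).1
    (congrArg (fun x : GL ι F => (x : Matrix ι ι F) i j) hg)
  have hdet : (Matrix.of b).det ≠ 0 := fun h0 => by
    have h1 : e ((Matrix.of b).det) = (g : Matrix ι ι F).det := by
      rw [RingHom.map_det]
      congr 1
      ext i j
      exact hb i j
    rw [h0, map_zero] at h1
    exact Units.ne_zero (GeneralLinearGroup.det g) h1.symm
  exact ⟨GeneralLinearGroup.mkOfDetNeZero _ hdet, Units.ext (Matrix.ext fun i j => hb i j)⟩

theorem map_map_of_fixed {σ : F ≃+* F} (he : ∀ a : F, σ a = a ↔ ∃ b, e b = a) (g : GL ι F₀) :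
    GeneralLinearGroup.map σ.toRingHom (GeneralLinearGroup.map e g) = GeneralLinearGroup.map e g :=
  Units.ext (Matrix.ext fun _ _ => (he _).2 ⟨_, rfl⟩)

/-- Hilbert 90 in `GL` with an arbitrary finite index type. -/
theorem exists_descent_gen (σ : F ≃+* F) {r : ℕ} (hr : 0 < r) (hσr : σ ^ r = 1)
    (hdist : ∀ i j : Fin r, σ ^ (i : ℕ) = σ ^ (j : ℕ) → i = j) (d : GL ι F)
    (hN : twistNorm (GeneralLinearGroup.map σ.toRingHom) d r = 1) :
    ∃ h : GL ι F, d = h * (GeneralLinearGroup.map σ.toRingHom h)⁻¹ := by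
  let E : GL ι F ≃* GL (Fin (Fintype.card ι)) F :=
    Units.mapEquiv (Matrix.reindexAlgEquiv F F (Fintype.equivFin ι)).toMulEquiv
  have hE : ∀ g : GL ι F, E (GeneralLinearGroup.map σ.toRingHom g) =
      GeneralLinearGroup.map σ.toRingHom (E g) := fun g => Units.ext rfl
  have hEN : ∀ k, E (twistNorm (GeneralLinearGroup.map σ.toRingHom) d k) =
      twistNorm (GeneralLinearGroup.map σ.toRingHom) (E d) k := by
    intro k
    induction k with
    | zero => exact map_one E
    | succ k ih =>
      show E (d * _) = E d * _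
      rw [map_mul, hE, ih]
  obtain ⟨h, hh⟩ := exists_descent σ hr hσr hdist (E d) (by rw [← hEN, hN, map_one])
  refine ⟨E.symm h, E.injective ?_⟩
  rw [map_mul, map_inv, hE, E.apply_symm_apply, hh]

/-- A form commuting with `σ` is defined over the fixed field. -/
theorem exists_rational_form {σ : F ≃+* F} (he : ∀ a : F, σ a = a ↔ ∃ b, e b = a)
    (Q : QuadraticForm F (ι → F)) (hc : ∀ v, Q (fun i => σ (v i)) = σ (Q v)) :
    ∃ Q₀ : QuadraticForm F₀ (ι → F₀), (∀ w, e (Q₀ w) = Q (incV e w)) ∧
      (BNondeg Q → BNondeg Q₀) := by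
  have hfixV : ∀ w : ι → F₀, (fun i => σ (incV e w i)) = incV e w :=
    fun w => funext fun i => (he _).2 ⟨_, rfl⟩
  choose b hb using fun w : ι → F₀ => (he (Q (incV e w))).1 (by rw [← hc, hfixV])
  have hsmul : ∀ (c : F₀) (w : ι → F₀), incV e (c • w) = e c • incV e w :=
    fun c w => funext fun i => map_mul e _ _
  have hpol : ∀ v w, e (polar b v w) = polar Q (incV e v) (incV e w) := fun v w => by
    simp only [polar, map_sub, hb, incV_add]
  let B : LinearMap.BilinMap F₀ (ι → F₀) F₀ := LinearMap.mk₂ F₀ (polar b)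
    (fun x x' y => e.injective (by rw [map_add, hpol, hpol, hpol, incV_add, polar_add_left]))
    (fun c x y => e.injective (by
      rw [smul_eq_mul, map_mul, hpol, hpol, hsmul, polar_smul_left, smul_eq_mul]))
    (fun x y y' => e.injective (by rw [map_add, hpol, hpol, hpol, incV_add, polar_add_right]))
    (fun c x y => e.injective (by
      rw [smul_eq_mul, map_mul, hpol, hpol, hsmul, polar_smul_right, smul_eq_mul]))
  let Q₀ : QuadraticForm F₀ (ι → F₀) :=
    { toFun := b
      toFun_smul := fun c w => e.injective (by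
        rw [smul_eq_mul, map_mul, map_mul, hb, hb, hsmul, QuadraticMap.map_smul, smul_eq_mul])
      exists_companion' := ⟨B, fun x y => by
        show b (x + y) = b x + b y + polar b x y
        simp only [polar]; ring⟩ }
  refine ⟨Q₀, hb, fun hnd x hx => ?_⟩
  have h0 : incV e x = 0 := hnd _ fun y => by
    have hlin : polarBilin Q (incV e x) = 0 := (Pi.basisFun F ι).ext fun i => by
      rw [QuadraticMap.polarBilin_apply_apply, Pi.basisFun_apply, ← incV_single e i, ← hpol]
      show e (polar b x _) = _
      rw [show polar b x (Pi.single i 1) = 0 from hx _, map_zero]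
      rfl
    exact LinearMap.congr_fun hlin y
  funext i
  exact e.injective (by rw [Pi.zero_apply, map_zero]; exact congrFun h0 i)

end Cfsg.Agent.OutPO
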