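import Mathlib
import Cfsg.Agent.OutPO.Field
import Cfsg.Agent.OutPO.Rational
import Cfsg.Agent.AutPSL.Classes
import Cfsg.Agent.AutPSL.FieldCard
import Cfsg.Agent.Classical.SimQuot

/-!
The inner-diagonal group of `Ω_{2m+1}(F)` is the special orthogonal group; its field automorphisms.
-/

set_option autoImplicit false
set_option linter.unusedSectionVars false

namespace Cfsg.Agent.OutPO

open Matrix QuadraticMap
open Cfsg.Agent.AutPO (good_odd oddFrame)
open Cfsg.Agent.Classical (simAut oddQF oddQF_apply BNondeg isoGroup_le_simGroup mem_isoGroup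
  inn_eq pgoAut_eq OrthCoord HypSpace)

universe u v

variable {F : Type u} [Field F] {m : ℕ}

/-- The index set of the odd-dimensional standard form. -/
abbrev OIx (m : ℕ) : Type := Unit ⊕ (Fin m ⊕ Fin m)

/-- The similarity group of the odd-dimensional standard form. -/
abbrev GOo (m : ℕ) (F : Type u) [Field F] : Subgroup (GL (OIx m) F) :=
  Cfsg.Geo.quadSimilarityGroup (F := F) (Cfsg.quadFormOdd m F)

/-- The special orthogonal group of the odd-dimensional standard form. -/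
abbrev SOo (m : ℕ) (F : Type u) [Field F] : Subgroup (GL (OIx m) F) :=
  Cfsg.specialIsometryGL F (Cfsg.quadFormOdd m F)

theorem compat_odd (σ : F ≃+* F) : Compat (Cfsg.quadFormOdd m F) σ := fun v => by
  simp [Cfsg.quadFormOdd, map_sum]

theorem odd_inc {F₀ : Type v} [Field F₀] (e : F₀ →+* F) (w : OIx m → F₀) :
    Cfsg.quadFormOdd m F (incV e w) = e (Cfsg.quadFormOdd m F₀ w) := by
  simp [Cfsg.quadFormOdd, incV, map_sum]

/-- The field automorphisms of `Ω_{2m+1}(F)`. -/
noncomputable def oddFieldAut :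
    (F ≃+* F) →* MulAut (Cfsg.POmega F (Cfsg.quadFormOdd m F)) where
  toFun σ := fieldAutOf (oddQF m F) (oddQF_apply m) σ (compat_odd σ)
  map_one' := fieldAutOf_one (oddQF m F) (oddQF_apply m)
  map_mul' σ τ := fieldAutOf_mul (oddQF m F) (oddQF_apply m) σ τ (compat_odd σ) (compat_odd τ)

theorem isFieldAutOdd_iff (σ : F ≃+* F) (β : MulAut (Cfsg.POmega F (Cfsg.quadFormOdd m F))) :
    Cfsg.IsFieldAutPOmegaOf (Cfsg.quadFormOdd m F) σ β ↔ β = oddFieldAut σ :=
  isFieldAutOf_iff (oddQF m F) (oddQF_apply m) σ (compat_odd σ) β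

theorem f_e0 : Cfsg.quadFormOdd m F (Pi.single (Sum.inl ()) 1) = 1 := by
  simp [Cfsg.quadFormOdd]

theorem mu_spec_odd (g : ↥(GOo m F)) (v : OIx m → F) :
    Cfsg.quadFormOdd m F ((g.1 : Matrix (OIx m) (OIx m) F) *ᵥ v) =
      Cfsg.quadFormOdd m F ((g.1 : Matrix (OIx m) (OIx m) F) *ᵥ Pi.single (Sum.inl ()) 1) *
        Cfsg.quadFormOdd m F v := by
  obtain ⟨c, hc⟩ := g.2
  rw [hc, hc, f_e0, mul_one]

/-- The multiplier. -/
noncomputable def muOdd : ↥(GOo m F) →* Fˣ where
  toFun g := Units.mk0 (Cfsg.quadFormOdd m F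
      ((g.1 : Matrix (OIx m) (OIx m) F) *ᵥ Pi.single (Sum.inl ()) 1)) (by
    obtain ⟨c, hc⟩ := g.2
    rw [hc, f_e0, mul_one]
    exact c.ne_zero)
  map_one' := Units.ext (by
    rw [Units.val_mk0, OneMemClass.coe_one, Units.val_one, one_mulVec, f_e0, Units.val_one])
  map_mul' g h := Units.ext (by
    rw [Units.val_mk0, Units.val_mul, Units.val_mk0, Units.val_mk0, Subgroup.coe_mul,
      Units.val_mul, ← Matrix.mulVec_mulVec, mu_spec_odd])

theorem muOdd_spec (g : ↥(GOo m F)) (v : OIx m → F) :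
    Cfsg.quadFormOdd m F ((g.1 : Matrix (OIx m) (OIx m) F) *ᵥ v) =
      (muOdd g : F) * Cfsg.quadFormOdd m F v :=
  mu_spec_odd g v

theorem card_OIx : Fintype.card (OIx m) = 2 * m + 1 := by simp; ring

theorem bNondeg_oddQF (h2 : (2 : F) ≠ 0) : BNondeg (oddQF m F) :=
  Classical.bNondeg_congr (Classical.oddEquiv m) (fun v => Classical.oddEquiv_spec m v)
    (Classical.bNondeg_hypExt m (Classical.goodCore_sq h2).nondeg)

theorem det_sq_odd (h2 : (2 : F) ≠ 0) (g : ↥(GOo m F)) :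
    GeneralLinearGroup.det g.1 * GeneralLinearGroup.det g.1 = muOdd g ^ (2 * m + 1) := by
  set M : Matrix (OIx m) (OIx m) F := (g.1 : Matrix (OIx m) (OIx m) F)
  set B : Matrix (OIx m) (OIx m) F :=
    LinearMap.toMatrix₂' F (QuadraticMap.polarBilin (oddQF m F)) with hB
  have hV := bNondeg_oddQF (m := m) h2
  have hnd : (QuadraticMap.polarBilin (oddQF m F)).Nondegenerate :=
    ⟨fun x hx => hV x hx, fun y hy => hV y fun x => by rw [polar_comm]; exact hy x⟩
  have hdet : B.det ≠ 0 :=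
    Matrix.Nondegenerate.det_ne_zero (LinearMap.Nondegenerate.toMatrix₂' hnd)
  have key : Mᵀ * B * M = (muOdd g : F) • B := by
    ext i j
    have h1 : ∀ x y, x ⬝ᵥ B *ᵥ y = QuadraticMap.polar ⇑(oddQF m F) x y := by
      intro x y
      rw [← Matrix.toLinearMap₂'_apply', hB, Matrix.toLinearMap₂'_toMatrix']
      rfl
    have h3 : polar ⇑(oddQF m F) (M *ᵥ Pi.single i 1) (M *ᵥ Pi.single j 1) =
        (muOdd g : F) * polar ⇑(oddQF m F) (Pi.single i 1) (Pi.single j 1) := by
      simp only [polar, ← Matrix.mulVec_add, oddQF_apply, M, muOdd_spec]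
      ring
    rw [← h1, ← h1, ← Matrix.vecMul_transpose, ← Matrix.dotProduct_mulVec, Matrix.mulVec_mulVec,
      Matrix.mulVec_mulVec] at h3
    simpa [Matrix.mul_assoc] using h3
  have h := congrArg Matrix.det key
  rw [Matrix.det_mul, Matrix.det_mul, Matrix.det_transpose, Matrix.det_smul, card_OIx] at h
  apply Units.ext
  rw [Units.val_mul, GeneralLinearGroup.val_det_apply, Units.val_pow_eq_pow_val]
  apply mul_right_cancel₀ hdet
  linear_combination h

/-- The canonical square root of the multiplier. -/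
noncomputable def rootMu : ↥(GOo m F) →* Fˣ where
  toFun g := GeneralLinearGroup.det g.1 * (muOdd g ^ m)⁻¹
  map_one' := by simp
  map_mul' g h := by
    rw [Subgroup.coe_mul, map_mul, map_mul, mul_pow, _root_.mul_inv, mul_mul_mul_comm]

theorem rootMu_sq (h2 : (2 : F) ≠ 0) (g : ↥(GOo m F)) : rootMu g * rootMu g = muOdd g := by
  show GeneralLinearGroup.det g.1 * (muOdd g ^ m)⁻¹ *
    (GeneralLinearGroup.det g.1 * (muOdd g ^ m)⁻¹) = muOdd g
  rw [mul_mul_mul_comm, det_sq_odd h2, pow_succ, two_mul, pow_add, ← _root_.mul_inv,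
    mul_comm (muOdd g ^ m * muOdd g ^ m), mul_assoc, mul_inv_cancel, mul_one]

theorem scalar_mulVec (c : Fˣ) (v : OIx m → F) :
    ((GeneralLinearGroup.scalar (OIx m) c : GL (OIx m) F) : Matrix (OIx m) (OIx m) F) *ᵥ v =
      (c : F) • v := by
  rw [GeneralLinearGroup.coe_scalar, scalar_apply, ← smul_one_eq_diagonal, Matrix.smul_mulVec,
    one_mulVec]

theorem det_scalar_odd (c : Fˣ) :
    GeneralLinearGroup.det (GeneralLinearGroup.scalar (OIx m) c) = c ^ (2 * m + 1) := by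
  apply Units.ext
  rw [GeneralLinearGroup.val_det_apply, GeneralLinearGroup.coe_scalar, scalar_apply, det_diagonal,
    Finset.prod_const, Finset.card_univ, card_OIx, Units.val_pow_eq_pow_val]

theorem scalar_comm (c : Fˣ) (g : GL (OIx m) F) :
    GeneralLinearGroup.scalar (OIx m) c * g = g * GeneralLinearGroup.scalar (OIx m) c := by
  apply Units.ext
  rw [Units.val_mul, Units.val_mul, GeneralLinearGroup.coe_scalar, scalar_apply,
    ← smul_one_eq_diagonal, Matrix.smul_mul, Matrix.mul_smul, one_mul, mul_one]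

theorem normalize_mem (h2 : (2 : F) ≠ 0) (g : ↥(GOo m F)) :
    GeneralLinearGroup.scalar (OIx m) (rootMu g)⁻¹ * g.1 ∈ SOo m F := by
  refine ⟨mem_isoGroup.2 fun v => ?_, ?_⟩
  · rw [Units.val_mul, ← Matrix.mulVec_mulVec, scalar_mulVec, ← oddQF_apply,
      QuadraticMap.map_smul, oddQF_apply, muOdd_spec, ← rootMu_sq h2, smul_eq_mul, Units.val_mul,
      Units.val_inv_eq_inv_val]
    have := (rootMu g).ne_zero
    field_simp
  · show GeneralLinearGroup.det _ = 1
    rw [map_mul, det_scalar_odd, inv_pow, inv_mul_eq_one, pow_succ, pow_mul, pow_two, rootMu_sq h2]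
    show muOdd g ^ m * (GeneralLinearGroup.det g.1 * (muOdd g ^ m)⁻¹) = _
    rw [mul_comm (GeneralLinearGroup.det g.1), mul_inv_cancel_left]

/-- The projection of a similarity to the special orthogonal group. -/
noncomputable def toSO (h2 : (2 : F) ≠ 0) : ↥(GOo m F) →* ↥(SOo m F) where
  toFun g := ⟨_, normalize_mem h2 g⟩
  map_one' := Subtype.ext (by simp)
  map_mul' g h := Subtype.ext (by
    show GeneralLinearGroup.scalar (OIx m) (rootMu (g * h))⁻¹ * (g.1 * h.1) =
      GeneralLinearGroup.scalar (OIx m) (rootMu g)⁻¹ * g.1 *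
        (GeneralLinearGroup.scalar (OIx m) (rootMu h)⁻¹ * h.1)
    rw [map_mul, _root_.mul_inv, map_mul, mul_assoc, mul_assoc, ← mul_assoc g.1, ← scalar_comm _ g.1,
      mul_assoc])

/-- The special orthogonal group inside the similarity group. -/
def soInc : ↥(SOo m F) →* ↥(GOo m F) :=
  Subgroup.inclusion fun _ hg => isoGroup_le_simGroup hg.1

/-- The action of the special orthogonal group. -/
noncomputable def soAut : ↥(SOo m F) →* MulAut (Cfsg.POmega F (Cfsg.quadFormOdd m F)) :=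
  simAut.comp soInc

theorem simAut_eq_soAut (h2 : (2 : F) ≠ 0) (g : ↥(GOo m F)) :
    simAut g = soAut (toSO h2 g) := by
  have e : g = (soInc (toSO h2 g)) *
      ⟨GeneralLinearGroup.scalar (OIx m) (rootMu g), ⟨rootMu g * rootMu g, fun v => by
        rw [scalar_mulVec, ← oddQF_apply, QuadraticMap.map_smul, oddQF_apply, smul_eq_mul,
          Units.val_mul]⟩⟩ := by
    apply Subtype.ext
    show g.1 = GeneralLinearGroup.scalar (OIx m) (rootMu g)⁻¹ * g.1 *
      GeneralLinearGroup.scalar (OIx m) (rootMu g)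
    rw [mul_assoc, ← scalar_comm (rootMu g), ← mul_assoc, ← map_mul, inv_mul_cancel, map_one,
      one_mul]
  conv_lhs => rw [e]
  refine (map_mul simAut _ _).trans ?_
  refine (congrArg (simAut (soInc (toSO h2 g)) * ·)
    (Classical.simAut_eq_one_of_scalar _ ⟨_, rfl⟩)).trans ?_
  exact mul_one _

theorem so_map_mem (σ : F ≃+* F) {g : GL (OIx m) F} (hg : g ∈ SOo m F) :
    GeneralLinearGroup.map σ.toRingHom g ∈ SOo m F := by
  refine ⟨mem_isoGroup.2 fun v => ?_, ?_⟩
  · obtain ⟨w, rfl⟩ : ∃ w : OIx m → F, (fun i => σ (w i)) = v :=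
      ⟨fun i => σ.symm (v i), funext fun i => σ.apply_symm_apply _⟩
    rw [map_mulVec_comp, compat_odd σ, compat_odd σ, mem_isoGroup.1 hg.1]
  · show GeneralLinearGroup.det _ = 1
    rw [det_map, show GeneralLinearGroup.det g = 1 from hg.2, map_one]

/-- The Galois action on the special orthogonal group. -/
def soMap (σ : F ≃+* F) : ↥(SOo m F) →* ↥(SOo m F) :=
  ((GeneralLinearGroup.map σ.toRingHom).comp (SOo m F).subtype).codRestrict _
    fun g => so_map_mem σ g.2

theorem soMap_coe (σ : F ≃+* F) (d : ↥(SOo m F)) :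
    (soMap σ d).1 = GeneralLinearGroup.map σ.toRingHom d.1 := rfl

theorem soMap_one (d : ↥(SOo m F)) : soMap 1 d = d :=
  Subtype.ext (Units.ext (Matrix.ext fun _ _ => rfl))

theorem soMap_iterate (σ : F ≃+* F) (k : ℕ) (d : ↥(SOo m F)) :
    (soMap σ)^[k] d = soMap (σ ^ k) d := by
  induction k with
  | zero => exact (soMap_one d).symm
  | succ k ih =>
    rw [Function.iterate_succ_apply', ih]
    refine Subtype.ext (Units.ext (Matrix.ext fun i j => ?_))
    exact (AutPSL.ringAut_pow_succ_apply σ k _).symm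

theorem oddFieldAut_mul_soAut (σ : F ≃+* F) (d : ↥(SOo m F)) :
    oddFieldAut σ * soAut d = soAut (soMap σ d) * oddFieldAut σ :=
  fieldAutOf_mul_simAut (oddQF m F) (oddQF_apply m) σ (compat_odd σ) (soInc d)

theorem inndiag_eq (h2 : (2 : F) ≠ 0) :
    Cfsg.inndiagPOmegaOdd m F = (soAut (m := m) (F := F)).range := by
  refine (pgoAut_eq (f := Cfsg.quadFormOdd m F)).trans (le_antisymm ?_ ?_)
  · rintro _ ⟨g, rfl⟩; exact ⟨_, (simAut_eq_soAut h2 g).symm⟩
  · rintro _ ⟨d, rfl⟩; exact ⟨soInc d, rfl⟩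

theorem isInnDiag_iff (h2 : (2 : F) ≠ 0) (β : MulAut (Cfsg.POmega F (Cfsg.quadFormOdd m F))) :
    Cfsg.IsInnerDiagonalAutPOmegaOdd m β ↔ β ∈ (soAut (m := m) (F := F)).range := by
  constructor
  · rintro ⟨g, hg, h⟩
    exact ⟨_, ((simAut_eq_soAut h2 ⟨g, hg⟩).symm.trans
      ((Classical.isInduced_iff ⟨g, hg⟩ β).1 h).symm)⟩
  · rintro ⟨d, rfl⟩
    exact ⟨(soInc d).1, (soInc d).2, (Classical.isInduced_iff (soInc d) _).2 rfl⟩

variable [Finite F]

theorem soAut_field_eq_one (h2 : (2 : F) ≠ 0) (hm : 3 ≤ m) {d : ↥(SOo m F)} {σ : F ≃+* F}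
    (h : soAut d * oddFieldAut σ = 1) : d = 1 ∧ σ = 1 := by
  obtain ⟨h1, hs⟩ := sim_field_eq_one (oddQF m F) (oddQF_apply m) (good_odd h2 hm) (soInc d) σ
    (compat_odd σ) h
  refine ⟨?_, h1⟩
  obtain ⟨c, hc⟩ := hs
  have hc' : GeneralLinearGroup.scalar (OIx m) c = d.1 := hc
  have hsq : c * c = 1 := by
    have := mem_isoGroup.1 d.2.1 (Pi.single (Sum.inl ()) 1)
    rw [← hc', scalar_mulVec, ← oddQF_apply, QuadraticMap.map_smul, oddQF_apply, f_e0,
      smul_eq_mul, mul_one] at this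
    exact Units.ext this
  have hdet : c ^ (2 * m + 1) = 1 := by
    rw [← det_scalar_odd, hc']
    exact d.2.2
  rw [pow_succ, pow_mul, pow_two, hsq, one_pow, one_mul] at hdet
  exact Subtype.ext (by rw [← hc', hdet, map_one]; rfl)

theorem soAut_injective (h2 : (2 : F) ≠ 0) (hm : 3 ≤ m) :
    Function.Injective (soAut (m := m) (F := F)) :=
  (injective_iff_map_eq_one _).2 fun d h =>
    (soAut_field_eq_one h2 hm (σ := 1) (by rw [map_one, mul_one, h])).1

theorem oddFieldAut_injective (h2 : (2 : F) ≠ 0) (hm : 3 ≤ m) :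
    Function.Injective (oddFieldAut (m := m) (F := F)) :=
  (injective_iff_map_eq_one _).2 fun σ h =>
    (soAut_field_eq_one h2 hm (d := 1) (by rw [map_one, one_mul, h])).2

theorem exists_decomp_odd (h2 : (2 : F) ≠ 0) (hm : 3 ≤ m)
    (β : MulAut (Cfsg.POmega F (Cfsg.quadFormOdd m F))) :
    ∃ (d : ↥(SOo m F)) (σ : F ≃+* F), β = soAut d * oddFieldAut σ := by
  obtain ⟨g, σ, h⟩ := exists_decomp (oddQF m F) (oddQF_apply m) (good_odd h2 hm) (oddFrame m) hm
    compat_odd β
  exact ⟨toSO h2 g, σ, by rw [h, simAut_eq_soAut h2 g]; rfl⟩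

theorem inndiag_normal (h2 : (2 : F) ≠ 0) (hm : 3 ≤ m) :
    (Cfsg.inndiagPOmegaOdd m F).Normal := by
  rw [inndiag_eq h2]
  refine ⟨?_⟩
  rintro _ ⟨e, rfl⟩ β
  obtain ⟨d, σ, rfl⟩ := exists_decomp_odd h2 hm β
  refine ⟨d * soMap σ e * d⁻¹, ?_⟩
  rw [map_mul, map_mul, map_inv, _root_.mul_inv_rev]
  have := oddFieldAut_mul_soAut σ e
  calc soAut d * soAut (soMap σ e) * (soAut d)⁻¹
      = soAut d * (soAut (soMap σ e) * oddFieldAut σ) * ((oddFieldAut σ)⁻¹ * (soAut d)⁻¹) := by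
        group
    _ = _ := by rw [← this]; group

theorem field_std_odd (h2 : (2 : F) ≠ 0) (hm : 3 ≤ m)
    {x : MulAut (Cfsg.POmega F (Cfsg.quadFormOdd m F))}
    (hx : Cfsg.IsFieldAutClassPOmega (Cfsg.quadFormOdd m F) x) :
    ∃ (α : MulAut (Cfsg.POmega F (Cfsg.quadFormOdd m F))) (σ : F ≃+* F),
      α * x * α⁻¹ = oddFieldAut σ ∧ σ ≠ 1 ∧ orderOf σ = orderOf x := by
  obtain ⟨α, φ, σ, hσ, hφ, h⟩ := hx
  rw [isFieldAutOdd_iff] at hφ
  subst hφ
  refine ⟨α, σ, h, hσ, ?_⟩
  rw [← AutPSL.orderOf_conj_eq α x, h, orderOf_injective _ (oddFieldAut_injective h2 hm)]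

end Cfsg.Agent.OutPO
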