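import Mathlib
import Cfsg.Agent.OutPO.OddBase

/-!
Inner automorphisms inside the inner-diagonal group of `Ω_{2m+1}(F)`.
-/

set_option autoImplicit false
set_option linter.unusedSectionVars false

namespace Cfsg.Agent.OutPO

open Matrix QuadraticMap
open Cfsg.Agent.Classical (simAut oddQF oddQF_apply oddEquiv oddEquiv_spec OrthCoord HypSpace hypExt
  hypSplit hypSplit_spec goodCore_sq mem_isoGroup inn_eq isoGroup_le_simGroup)

universe u v

variable {F : Type u} [Field F] {m : ℕ}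

/-- The coordinates of the odd-dimensional form. -/
noncomputable def oddCoord (h2 : (2 : F) ≠ 0) (k : ℕ) :
    OrthCoord (Cfsg.quadFormOdd (k + 3) F) (HypSpace F (k + 2) F) where
  Qf := oddQF (k + 3) F
  hQf := oddQF_apply _
  Q := hypExt (k + 2) (QuadraticMap.sq : QuadraticForm F F)
  e := (oddEquiv (k + 3)).trans (hypSplit (k + 2))
  he v := by rw [LinearEquiv.trans_apply, hypSplit_spec, oddEquiv_spec]
  nondeg := ((goodCore_sq h2).hypExt_data k).1
  pairs := ((goodCore_sq h2).hypExt_data k).2.1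
  gen := ((goodCore_sq h2).hypExt_data k).2.2

/-- An element of the special orthogonal group as an isometry. -/
def soToIso : ↥(SOo m F) →* ↥(Cfsg.isometryGroup F (Cfsg.quadFormOdd m F)) :=
  Subgroup.inclusion fun _ hg => hg.1

/-- The reflection in a non-singular vector, as a matrix. -/
noncomputable def oddRefl (x : OIx m → F) (hx : Cfsg.quadFormOdd m F x ≠ 0) :
    ↥(Cfsg.isometryGroup F (Cfsg.quadFormOdd m F)) :=
  ⟨(Refl.reflectionIso (oddQF m F) x (by rwa [oddQF_apply])).1, mem_isoGroup.2 fun v => by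
    have h := (Refl.mem_isometryGroup_iff (oddQF m F)).1
      (Refl.reflectionIso (oddQF m F) x (by rwa [oddQF_apply])).2 v
    exact ((oddQF_apply m _).symm.trans h).trans (oddQF_apply m v)⟩

theorem oddRefl_mulVec (x : OIx m → F) (hx : Cfsg.quadFormOdd m F x ≠ 0) (v : OIx m → F) :
    ((oddRefl x hx).1 : Matrix (OIx m) (OIx m) F) *ᵥ v =
      v - ((oddQF m F x)⁻¹ * polar ⇑(oddQF m F) x v) • x :=
  Refl.reflectionMatrix_mulVec (oddQF m F) x v

theorem det_oddRefl (x : OIx m → F) (hx : Cfsg.quadFormOdd m F x ≠ 0) :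
    GeneralLinearGroup.det (oddRefl x hx).1 = -1 := by
  refine Units.ext ?_
  rw [GeneralLinearGroup.val_det_apply, Units.val_neg, Units.val_one]
  exact Refl.det_reflectionMatrix (oddQF m F) (by rwa [oddQF_apply])

/-- The product of two reflections. -/
noncomputable def reflPair (x y : OIx m → F) (hx : Cfsg.quadFormOdd m F x ≠ 0)
    (hy : Cfsg.quadFormOdd m F y ≠ 0) : ↥(SOo m F) :=
  ⟨(oddRefl x hx * oddRefl y hy).1, (oddRefl x hx * oddRefl y hy).2, by
    show GeneralLinearGroup.det _ = 1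
    rw [Subgroup.coe_mul, map_mul, det_oddRefl, det_oddRefl]
    simp⟩

theorem map_oddRefl {F₀ : Type v} [Field F₀] (e : F₀ →+* F) (x : OIx m → F₀)
    (hx : Cfsg.quadFormOdd m F₀ x ≠ 0) (hx' : Cfsg.quadFormOdd m F (incV e x) ≠ 0) :
    GeneralLinearGroup.map e (oddRefl x hx).1 = (oddRefl (incV e x) hx').1 := by
  refine Units.ext (Matrix.ext_of_mulVec_single fun i => ?_)
  rw [← incV_single e i, map_mulVec_inc, oddRefl_mulVec, oddRefl_mulVec]
  funext k
  simp only [incV, Pi.sub_apply, Pi.smul_apply, smul_eq_mul, map_sub, map_mul, map_inv₀]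
  have h1 : ∀ w, e (oddQF m F₀ w) = oddQF m F (incV e w) := fun w => by
    rw [oddQF_apply, oddQF_apply, odd_inc]
  simp only [polar, map_sub, h1, incV_add]

/-- The special orthogonal group over a subfield, inside the one over the field. -/
theorem soExt {F₀ : Type v} [Field F₀] (e : F₀ →+* F) (g : GL (OIx m) F₀) (hg : g ∈ SOo m F₀) :
    GeneralLinearGroup.map e g ∈ SOo m F :=
  ⟨(map_mem_iso_iff e (oddQF m F) (oddQF_apply m) (odd_inc e) g).2 hg.1, by
    show GeneralLinearGroup.det _ = 1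
    rw [det_map, show GeneralLinearGroup.det g = 1 from hg.2, map_one]⟩

/-- Extension of scalars on special orthogonal groups. -/
def soIncl {F₀ : Type v} [Field F₀] (e : F₀ →+* F) : ↥(SOo m F₀) →* ↥(SOo m F) :=
  ((GeneralLinearGroup.map e).comp (SOo m F₀).subtype).codRestrict _ fun g => soExt e g.1 g.2

theorem soIncl_coe {F₀ : Type v} [Field F₀] (e : F₀ →+* F) (g : ↥(SOo m F₀)) :
    (soIncl e g).1 = GeneralLinearGroup.map e g.1 := rfl

theorem soIncl_injective {F₀ : Type v} [Field F₀] (e : F₀ →+* F) :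
    Function.Injective (soIncl (m := m) e) := fun g g' h =>
  Subtype.ext (Units.ext (Matrix.ext fun i j => e.injective
    (congrArg (fun x : ↥(SOo m F) => (x.1 : Matrix (OIx m) (OIx m) F) i j) h)))

theorem soIncl_reflPair {F₀ : Type v} [Field F₀] (e : F₀ →+* F) (x y : OIx m → F₀)
    (hx : Cfsg.quadFormOdd m F₀ x ≠ 0) (hy : Cfsg.quadFormOdd m F₀ y ≠ 0)
    (hx' : Cfsg.quadFormOdd m F (incV e x) ≠ 0) (hy' : Cfsg.quadFormOdd m F (incV e y) ≠ 0) :
    soIncl e (reflPair x y hx hy) = reflPair (incV e x) (incV e y) hx' hy' := by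
  apply Subtype.ext
  show GeneralLinearGroup.map e ((oddRefl x hx).1 * (oddRefl y hy).1) = _
  rw [map_mul, map_oddRefl e x hx hx', map_oddRefl e y hy hy']
  rfl

/-- `Ω`, inside the special orthogonal group. -/
def omSO (m : ℕ) (F : Type u) [Field F] : Subgroup ↥(SOo m F) :=
  (Cfsg.Omega F (Cfsg.quadFormOdd m F)).comap soToIso

theorem omSO_ext {F₀ : Type v} [Field F₀] (e : F₀ →+* F) {g : ↥(SOo m F₀)} (hg : g ∈ omSO m F₀) :
    soIncl e g ∈ omSO m F := by
  let φ : ↥(Cfsg.isometryGroup F₀ (Cfsg.quadFormOdd m F₀)) →*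
      ↥(Cfsg.isometryGroup F (Cfsg.quadFormOdd m F)) :=
    ((GeneralLinearGroup.map e).comp (Subgroup.subtype _)).codRestrict _
      fun g => (map_mem_iso_iff e (oddQF m F) (oddQF_apply m) (odd_inc e) g.1).2 g.2
  have h : (commutator _).map φ ≤ commutator _ := by
    rw [commutator_def, Subgroup.map_commutator]
    exact Subgroup.commutator_mono le_top le_top
  have e' : soToIso (soIncl e g) = φ (soToIso g) := rfl
  rw [omSO, Subgroup.mem_comap, e']
  exact h ⟨_, hg, rfl⟩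

variable [Finite F]

theorem omega_det (h2 : (2 : F) ≠ 0) (hodd : Odd (Nat.card F)) (hm : 3 ≤ m)
    {s : ↥(Cfsg.isometryGroup F (Cfsg.quadFormOdd m F))}
    (hs : s ∈ Cfsg.Omega F (Cfsg.quadFormOdd m F)) : GeneralLinearGroup.det s.1 = 1 := by
  obtain ⟨k, rfl⟩ : ∃ k, m = k + 3 := ⟨m - 3, by omega⟩
  exact (((oddCoord h2 k).omega_iff hodd s).1 hs).1

theorem soAut_mem_inn_iff (h2 : (2 : F) ≠ 0) (hodd : Odd (Nat.card F)) (hm : 3 ≤ m)
    (d : ↥(SOo m F)) :
    soAut d ∈ Cfsg.Inn (Cfsg.POmega F (Cfsg.quadFormOdd m F)) ↔ d ∈ omSO m F := by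
  rw [inn_eq]
  constructor
  · rintro ⟨_, ⟨t, ht, rfl⟩, e⟩
    let t' : ↥(SOo m F) := ⟨t.1, t.2, omega_det h2 hodd hm ht⟩
    have h : t' = d := soAut_injective h2 hm e
    rw [← h]
    exact ht
  · intro hd
    exact ⟨soInc d, ⟨soToIso d, hd, rfl⟩, rfl⟩

theorem inn_le_range (h2 : (2 : F) ≠ 0) (hodd : Odd (Nat.card F)) (hm : 3 ≤ m) :
    Cfsg.Inn (Cfsg.POmega F (Cfsg.quadFormOdd m F)) ≤ (soAut (m := m) (F := F)).range := by
  rw [inn_eq]
  rintro _ ⟨_, ⟨t, ht, rfl⟩, rfl⟩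
  exact ⟨⟨t.1, t.2, omega_det h2 hodd hm ht⟩, rfl⟩

theorem reflPair_mem_iff (h2 : (2 : F) ≠ 0) (hodd : Odd (Nat.card F)) (hm : 3 ≤ m)
    (x y : OIx m → F) (hx : Cfsg.quadFormOdd m F x ≠ 0) (hy : Cfsg.quadFormOdd m F y ≠ 0) :
    reflPair x y hx hy ∈ omSO m F ↔
      IsSquare (Cfsg.quadFormOdd m F x * Cfsg.quadFormOdd m F y) := by
  obtain ⟨k, rfl⟩ : ∃ k, m = k + 3 := ⟨m - 3, by omega⟩
  set D := oddCoord (F := F) h2 k
  have e : soToIso (reflPair x y hx hy) = D.refl x hx * D.refl y hy := rfl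
  rw [omSO, Subgroup.mem_comap, e, D.omega_iff hodd, D.theta_refl_mul hodd hx hy]
  exact and_iff_right (D.det_refl_mul hodd hx hy)

theorem exists_nonsquare_pair (hodd : Odd (Nat.card F)) :
    ∃ (x y : OIx (m + 1) → F) (_ : Cfsg.quadFormOdd (m + 1) F x ≠ 0)
      (_ : Cfsg.quadFormOdd (m + 1) F y ≠ 0),
      ¬ IsSquare (Cfsg.quadFormOdd (m + 1) F x * Cfsg.quadFormOdd (m + 1) F y) := by
  obtain ⟨c, hc⟩ := FiniteField.exists_nonsquare (F := F) (by
    intro hch
    exact Classical.two_ne_zero_of_odd hodd (by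
      have : CharP F 2 := hch ▸ ringChar.charP F
      exact CharTwo.two_eq_zero))
  have hc0 : c ≠ 0 := by rintro rfl; exact hc ⟨0, by simp⟩
  have h : ∀ c : F, Cfsg.quadFormOdd (m + 1) F
      (Pi.single (.inr (.inl 0)) 1 + Pi.single (.inr (.inr 0)) c) = c := fun c => by
    simp [Cfsg.quadFormOdd, Pi.single_apply]
  exact ⟨_, _, by rw [h]; exact one_ne_zero, by rw [h]; exact hc0, by rw [h 1, h c, one_mul]; exact hc⟩

theorem relIndex_inn (h2 : (2 : F) ≠ 0) (hodd : Odd (Nat.card F)) (hm : 3 ≤ m) :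
    (Cfsg.Inn (Cfsg.POmega F (Cfsg.quadFormOdd m F))).relIndex
      (soAut (m := m) (F := F)).range = 2 := by
  have hcomap : (Cfsg.Inn (Cfsg.POmega F (Cfsg.quadFormOdd m F))).comap soAut = omSO m F :=
    Subgroup.ext fun d => soAut_mem_inn_iff h2 hodd hm d
  rw [MonoidHom.range_eq_map, ← Subgroup.relIndex_comap, hcomap, Subgroup.relIndex_top_right,
    Subgroup.index_eq_two_iff]
  obtain ⟨k, rfl⟩ : ∃ k, m = k + 3 := ⟨m - 3, by omega⟩
  obtain ⟨x, y, hx, hy, hxy⟩ := exists_nonsquare_pair (F := F) (m := k + 2) hodd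
  refine ⟨reflPair x y hx hy, fun b => ?_⟩
  set D := oddCoord (F := F) h2 k
  have key : ∀ b : ↥(SOo (k + 3) F), b ∈ omSO (k + 3) F ↔ D.theta (soToIso b) = 1 := fun b => by
    rw [omSO, Subgroup.mem_comap, D.omega_iff hodd]
    exact and_iff_right b.2.2
  have hz : D.theta (soToIso (reflPair x y hx hy)) = -1 :=
    (Int.units_eq_one_or _).resolve_left fun h =>
      hxy ((reflPair_mem_iff h2 hodd hm x y hx hy).1 ((key _).2 h))
  rw [key, key, map_mul, map_mul, hz]
  rcases Int.units_eq_one_or (D.theta (soToIso b)) with h | h <;> simp [h, Xor, xor_iff_not_iff]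

end Cfsg.Agent.OutPO
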