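import Mathlib
import Cfsg.Prelude.Def_KGroupFacts
import Cfsg.Agent.OutPO.OddInn
import Cfsg.Agent.OutPO.Abstract
import Cfsg.Agent.AutPSL.ClassSplit
import Cfsg.Agent.ClassicalElem.OutPSL
import Cfsg.Agent.Forms.FiniteQuadratic

/-!
`Out(Ω_{2m+1}(q))`, and cosets, centralizers and class splitting of its field automorphisms.
-/

set_option autoImplicit false
set_option linter.unusedSectionVars false

namespace Cfsg.Agent.OutPO

open Matrix QuadraticMap
open Cfsg.Agent.AutPSL (twistNorm twistNorm_apply orderOf_dist orderOf_pos_field fixedField)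
open Cfsg.Agent.Classical (simAut oddQF oddQF_apply BNondeg two_ne_zero_of_odd inn_eq)

universe u v

variable {F : Type u} [Field F] {m : ℕ}

local notation "f⋆" => Cfsg.quadFormOdd m F
local notation "A⋆" => MulAut (Cfsg.POmega F (Cfsg.quadFormOdd m F))

theorem conj_eq_one_iff [Finite F] (h2 : (2 : F) ≠ 0) (hm : 3 ≤ m) (hodd : Odd (Nat.card F))
    (k : Cfsg.POmega F f⋆) (hk : MulAut.conj k = 1) : k = 1 := by
  obtain ⟨s, rfl⟩ := QuotientGroup.mk_surjective k
  have h := omega_det h2 hodd hm s.2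
  let d : ↥(SOo m F) := ⟨s.1.1, s.1.2, h⟩
  have e : soAut d = (MulAut.conj (QuotientGroup.mk s : Cfsg.POmega F f⋆) : A⋆) := by
    refine MulEquiv.ext fun x => ?_
    obtain ⟨t, rfl⟩ := QuotientGroup.mk_surjective x
    rw [MulAut.conj_apply, ← QuotientGroup.mk_mul, ← QuotientGroup.mk_inv, ← QuotientGroup.mk_mul]
    rfl
  have hd : d = 1 := soAut_injective h2 hm (by rw [e, hk, map_one])
  have : s = 1 := Subtype.ext (Subtype.ext (congrArg Subtype.val hd : s.1.1 = 1))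
  rw [this]
  exact QuotientGroup.mk_one _

variable [Finite F]

theorem out_equiv (hodd : Odd (Nat.card F)) (hm : 3 ≤ m) :
    Nonempty (Cfsg.Out (Cfsg.POmega F f⋆) ≃* Multiplicative (ZMod 2) × (F ≃+* F)) := by
  have h2 := two_ne_zero_of_odd hodd
  haveI hN : ((soAut (m := m) (F := F)).range).Normal := inndiag_eq (m := m) h2 ▸ inndiag_normal h2 hm
  haveI := AutPSL.inn_normal (Cfsg.POmega F f⋆)
  refine nonempty_quotient_equiv_of_split oddFieldAut (soAut (m := m) (F := F)).range _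
    (inn_le_range h2 hodd hm) (relIndex_inn h2 hodd hm) (fun a => ?_) fun σ hσ => ?_
  · obtain ⟨d, σ, h⟩ := exists_decomp_odd h2 hm a
    exact ⟨_, ⟨d, rfl⟩, σ, h⟩
  · obtain ⟨d, hd⟩ := hσ
    exact (soAut_field_eq_one h2 hm (d := d⁻¹) (σ := σ) (by rw [← hd, map_inv, inv_mul_cancel])).2

theorem out_equiv_zmod (hodd : Odd (Nat.card F)) (hm : 3 ≤ m) {p f : ℕ} [Fact p.Prime]
    (hF : Nat.card F = p ^ f) :
    Nonempty (Cfsg.Out (Cfsg.POmega F f⋆) ≃* Multiplicative (ZMod 2 × ZMod f)) := by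
  obtain ⟨E⟩ := out_equiv (F := F) hodd hm
  obtain ⟨G⟩ := ClassicalElem.exists_ringAut_equiv (F := F) p f hF
  exact ⟨(E.trans (MulEquiv.prodCongr (MulEquiv.refl _) G)).trans
    (MulEquiv.prodMultiplicative _ _).symm⟩

theorem card_mulAut (hodd : Odd (Nat.card F)) (hm : 3 ≤ m) {p f : ℕ} [Fact p.Prime]
    (hF : Nat.card F = p ^ f) :
    Nat.card (MulAut (Cfsg.POmega F f⋆)) = 2 * f * Nat.card (Cfsg.POmega F f⋆) := by
  obtain ⟨E⟩ := out_equiv_zmod (F := F) hodd hm hF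
  have h2 := two_ne_zero_of_odd hodd
  rw [Subgroup.card_eq_card_quotient_mul_card_subgroup (Cfsg.Inn (Cfsg.POmega F f⋆))]
  congr 1
  · rw [show Nat.card (MulAut (Cfsg.POmega F f⋆) ⧸ Cfsg.Inn (Cfsg.POmega F f⋆)) = _ from
      Nat.card_congr E.toEquiv, Nat.card_congr Multiplicative.toAdd, Nat.card_prod, Nat.card_zmod,
      Nat.card_zmod]
  · exact (Nat.card_congr (MonoidHom.ofInjective
      ((injective_iff_map_eq_one (MulAut.conj : Cfsg.POmega F f⋆ →* _)).2
        fun k hk => conj_eq_one_iff h2 hm hodd k hk)).toEquiv).symm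

/-! ### Cosets -/

set_option maxHeartbeats 1600000 in
theorem field_coset_odd (h2 : (2 : F) ≠ 0) (hm : 3 ≤ m) (σ : F ≃+* F) {r : ℕ}
    (hσ : orderOf σ = r) (d : ↥(SOo m F)) (h : (soAut d * oddFieldAut σ : A⋆) ^ r = 1) :
    ∃ g : ↥(SOo m F), soAut d * oddFieldAut σ = soAut g * oddFieldAut σ * (soAut g : A⋆)⁻¹ := by
  have hr : 0 < r := hσ ▸ orderOf_pos_field σ
  have hσr : σ ^ r = 1 := hσ ▸ pow_orderOf_eq_one σ
  have hN := twistNorm_apply soAut (oddFieldAut σ : A⋆) (soMap σ)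
    (fun g => oddFieldAut_mul_soAut σ g) d r
  rw [h, ← map_pow, hσr, map_one, mul_one] at hN
  have hone : twistNorm (soMap σ) d r = 1 := soAut_injective h2 hm (by rw [← hN, map_one])
  have hcoe : ∀ k, (twistNorm (soMap σ) d k).1 =
      twistNorm (GeneralLinearGroup.map σ.toRingHom) d.1 k := by
    intro k
    induction k with
    | zero => rfl
    | succ k ih =>
      show (d * soMap σ (twistNorm (soMap σ) d k)).1 = _
      rw [Subgroup.coe_mul, soMap_coe, ih]
      rfl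
  obtain ⟨h', hh'⟩ := exists_descent_gen σ hr hσr (orderOf_dist σ hσ) d.1
    (by rw [← hcoe, hone]; rfl)
  let Qh : QuadraticForm F (OIx m → F) :=
    (oddQF m F).comp (Matrix.toLin' (h' : Matrix (OIx m) (OIx m) F))
  have hQh : ∀ v, Qh v = f⋆ ((h' : Matrix (OIx m) (OIx m) F) *ᵥ v) := fun v => by
    rw [QuadraticMap.comp_apply, Matrix.toLin'_apply, oddQF_apply]
  have hQσ : ∀ v, Qh (fun i => σ (v i)) = σ (Qh v) := by
    intro v
    have e : (h' : Matrix (OIx m) (OIx m) F) *ᵥ (fun i => σ (v i)) =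
        (d.1 : Matrix (OIx m) (OIx m) F) *ᵥ fun i => σ (((h' : Matrix (OIx m) (OIx m) F) *ᵥ v) i) := by
      rw [← map_mulVec_comp, Matrix.mulVec_mulVec, ← Units.val_mul]
      congr 2
      rw [hh', inv_mul_cancel_right]
    rw [hQh, hQh, e, Classical.mem_isoGroup.1 d.2.1, compat_odd σ]
  let F₀ := ↥(fixedField σ)
  let e₀ : F₀ →+* F := (fixedField σ).subtype
  have he : ∀ a : F, σ a = a ↔ ∃ b, e₀ b = a :=
    fun a => ⟨fun ha => ⟨⟨a, ha⟩, rfl⟩, by rintro ⟨b, rfl⟩; exact b.2⟩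
  obtain ⟨Q₀, hQ₀, hnd₀⟩ := exists_rational_form e₀ he Qh hQσ
  have hnd : BNondeg Qh := Classical.bNondeg_congr
    (GeneralLinearGroup.toLin h').toLinearEquiv (fun v => (hQh v).trans (oddQF_apply m _).symm |>.symm)
    (bNondeg_oddQF h2)
  have hns : Forms.NonsingOn Q₀ ⊤ := fun x _ hx _ => hnd₀ hnd x fun y => hx y trivial
  obtain ⟨m', hcases⟩ := Forms.exists_finite_witt_decomposition Q₀ hns
  rw [Module.finrank_pi, card_OIx] at hcases
  rcases hcases with ⟨hd, -⟩ | ⟨hd, c, hc0, E, hE⟩ | ⟨hd, -⟩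
  · omega
  swap
  · omega
  obtain rfl : m' = m := by omega
  let N : GL (OIx m') F₀ :=
    GeneralLinearGroup.toLin.symm (LinearMap.GeneralLinearGroup.ofLinearEquiv E.symm)
  have hNv : ∀ w, (N : Matrix (OIx m') (OIx m') F₀) *ᵥ w = E.symm w := fun w => by
    show LinearMap.toMatrix' E.symm.toLinearMap *ᵥ w = _
    rw [LinearMap.toMatrix'_mulVec]; rfl
  have hsim : h' * GeneralLinearGroup.map e₀ N ∈ GOo m' F :=
    ⟨Units.map e₀.toMonoidHom (Units.mk0 c hc0), sim_of_rational e₀ (oddQF m' F) (oddQF_apply m')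
      (odd_inc e₀) fun w => by
        rw [Units.val_mul, ← Matrix.mulVec_mulVec, map_mulVec_inc, ← hQh, ← hQ₀, hNv, hE,
          E.apply_symm_apply, map_mul]
        rfl⟩
  set gS : ↥(GOo m' F) := ⟨_, hsim⟩ with hgS
  refine ⟨toSO h2 gS, ?_⟩
  rw [← simAut_eq_soAut h2]
  have he2 : soInc d = gS * (simMap σ (compat_odd σ) gS)⁻¹ := by
    apply Subtype.ext
    show d.1 = gS.1 * (GeneralLinearGroup.map σ.toRingHom gS.1)⁻¹
    rw [hgS, hh']
    show _ = h' * GeneralLinearGroup.map e₀ N *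
      (GeneralLinearGroup.map σ.toRingHom (h' * GeneralLinearGroup.map e₀ N))⁻¹
    rw [map_mul, map_map_of_fixed e₀ he, _root_.mul_inv_rev, mul_assoc h', mul_inv_cancel_left]
  have hcomm := fieldAutOf_mul_simAut (oddQF m' F) (oddQF_apply m') σ (compat_odd σ) gS
  show simAut (soInc d) * oddFieldAut σ = _
  rw [he2, map_mul, map_inv]
  set u : MulAut (Cfsg.POmega F (Cfsg.quadFormOdd m' F)) := simAut gS
  set w : MulAut (Cfsg.POmega F (Cfsg.quadFormOdd m' F)) := simAut (simMap σ (compat_odd σ) gS)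
  have hcomm' : oddFieldAut σ * u = w * oddFieldAut σ := hcomm
  calc u * w⁻¹ * oddFieldAut σ = u * (w⁻¹ * (oddFieldAut σ * u)) * u⁻¹ := by group
    _ = _ := by rw [hcomm']; group

theorem order_iff_conj_odd (h2 : (2 : F) ≠ 0) (hm : 3 ≤ m) {x δ : A⋆}
    (hx : Cfsg.IsFieldAutClassPOmega f⋆ x) {r : ℕ} (hxr : orderOf x = r)
    (hδ : δ ∈ Cfsg.inndiagPOmegaOdd m F) :
    orderOf (δ * x) = r ↔ Cfsg.IsConjUnder (Cfsg.inndiagPOmegaOdd m F) x (δ * x) := by
  haveI hN := inndiag_normal (F := F) h2 hm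
  refine ⟨fun h => ?_, ?_⟩
  swap
  · rintro ⟨h, -, e⟩
    rw [e, AutPSL.orderOf_conj_eq, hxr]
  have hpow := pow_orderOf_eq_one (δ * x)
  rw [h] at hpow
  obtain ⟨α, σ, hα, -, hσ⟩ := field_std_odd h2 hm hx
  rw [← AutPSL.isConjUnder_conj_iff α]
  have e : α * (δ * x) * α⁻¹ = (α * δ * α⁻¹) * (α * x * α⁻¹) := by group
  have hd' := hN.conj_mem δ hδ α
  rw [inndiag_eq h2] at hd'
  obtain ⟨d, hd⟩ := hd'
  rw [e, hα, ← hd]
  have hp : (soAut d * oddFieldAut σ : A⋆) ^ r = 1 := by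
    rw [hd, ← hα, ← e, conj_pow, hpow, mul_one, mul_inv_cancel]
  obtain ⟨g, hg⟩ := field_coset_odd h2 hm σ (hσ.trans hxr) d hp
  exact ⟨soAut g, by rw [inndiag_eq h2]; exact ⟨g, rfl⟩, hg⟩

/-! ### Centralizers -/

theorem mem_cent_odd (h2 : (2 : F) ≠ 0) (hm : 3 ≤ m) (σ : F ≃+* F) (d : ↥(SOo m F)) :
    soAut d * oddFieldAut σ = oddFieldAut σ * (soAut d : A⋆) ↔ soMap σ d = d := by
  rw [oddFieldAut_mul_soAut, mul_left_inj, (soAut_injective h2 hm).eq_iff, eq_comm]

theorem exists_rational_so {F₀ : Type v} [Field F₀] (e : F₀ →+* F) {σ : F ≃+* F}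
    (he : ∀ a : F, σ a = a ↔ ∃ b, e b = a) {d : ↥(SOo m F)} (hd : soMap σ d = d) :
    ∃ d₀ : ↥(SOo m F₀), soIncl e d₀ = d := by
  obtain ⟨g₀, hg₀⟩ := exists_rational_gl e he (congrArg Subtype.val hd)
  have hmem : g₀ ∈ Cfsg.isometryGroup F₀ (Cfsg.quadFormOdd m F₀) :=
    (map_mem_iso_iff e (oddQF m F) (oddQF_apply m) (odd_inc e) g₀).1 (hg₀ ▸ d.2.1)
  have hdet : GeneralLinearGroup.det g₀ = 1 := by
    apply Units.map_injective (f := e.toMonoidHom) e.injective
    rw [map_one, ← det_map, hg₀]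
    exact d.2.2
  exact ⟨⟨g₀, hmem, hdet⟩, Subtype.ext hg₀⟩

theorem soMap_soIncl {F₀ : Type v} [Field F₀] (e : F₀ →+* F) {σ : F ≃+* F}
    (he : ∀ a : F, σ a = a ↔ ∃ b, e b = a) (d₀ : ↥(SOo m F₀)) :
    soMap σ (soIncl e d₀) = soIncl e d₀ :=
  Subtype.ext (map_map_of_fixed e he d₀.1)

theorem field_centralizer_odd (h2 : (2 : F) ≠ 0) (hm : 3 ≤ m) (σ : F ≃+* F) {F₀ : Type v}
    [Field F₀] [Finite F₀] (e : F₀ →+* F) (he : ∀ a : F, σ a = a ↔ ∃ b, e b = a) :
    Nonempty (↥(Cfsg.inndiagPOmegaOdd m F ⊓ Subgroup.centralizer {(oddFieldAut σ : A⋆)}) ≃*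
      ↥(Cfsg.inndiagPOmegaOdd m F₀)) := by
  have h2' : (2 : F₀) ≠ 0 := fun h => h2 (by
    have := congrArg e h; rwa [map_ofNat, map_zero] at this)
  let Φ : ↥(SOo m F₀) →* A⋆ := soAut.comp (soIncl e)
  have hinj : Function.Injective Φ := (soAut_injective h2 hm).comp (soIncl_injective e)
  have hrange : Φ.range =
      Cfsg.inndiagPOmegaOdd m F ⊓ Subgroup.centralizer {(oddFieldAut σ : A⋆)} := by
    rw [inndiag_eq h2]
    refine le_antisymm ?_ ?_
    · rintro _ ⟨d₀, rfl⟩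
      exact ⟨⟨_, rfl⟩, Subgroup.mem_centralizer_singleton_iff.2
        ((mem_cent_odd h2 hm σ _).2 (soMap_soIncl e he d₀))⟩
    · rintro _ ⟨⟨d, rfl⟩, hc⟩
      obtain ⟨d₀, rfl⟩ := exists_rational_so e he
        ((mem_cent_odd h2 hm σ d).1 (Subgroup.mem_centralizer_singleton_iff.1 hc))
      exact ⟨d₀, rfl⟩
  exact ⟨((MulEquiv.subgroupCongr hrange.symm).trans (MonoidHom.ofInjective hinj).symm).trans
    ((MonoidHom.ofInjective (soAut_injective h2' hm)).trans
      (MulEquiv.subgroupCongr (inndiag_eq h2').symm))⟩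

theorem isSquare_of_fixed (σ : F ≃+* F) (hσ : orderOf σ = 2) {a : F} (ha : σ a = a) :
    IsSquare a := by
  classical
  haveI := Fintype.ofFinite ↥(fixedField σ)
  haveI := Fintype.ofFinite F
  by_cases h2 : ringChar F = 2
  · exact FiniteField.isSquare_of_char_two h2 a
  rcases eq_or_ne a 0 with rfl | ha0
  · exact ⟨0, by simp⟩
  rw [FiniteField.isSquare_iff h2 ha0]
  set q := Fintype.card ↥(fixedField σ) with hq
  have hcard : Fintype.card F = q * q := by
    have := AutPSL.card_fixedField_pow σ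
    rw [hσ, Nat.card_eq_fintype_card, Nat.card_eq_fintype_card, ← hq, pow_two] at this
    exact this
  have hodd : Odd q := (Nat.odd_mul.1 (hcard ▸ Nat.odd_iff.2 (FiniteField.odd_card_of_char_ne_two h2))).1
  have h1 : a ^ (q - 1) = 1 := by
    have := FiniteField.pow_card_sub_one_eq_one (⟨a, ha⟩ : ↥(fixedField σ))
      (fun h => ha0 (congrArg Subtype.val h))
    exact congrArg Subtype.val this
  obtain ⟨k, hk⟩ := hodd
  rw [hcard, show q * q / 2 = (q - 1) * (k + 1) by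
    rw [hk, show 2 * k + 1 - 1 = 2 * k by omega,
      show (2 * k + 1) * (2 * k + 1) = 2 * (2 * k * (k + 1)) + 1 by ring]
    omega, pow_mul, h1, one_pow]

theorem field_split_odd (hodd : Odd (Nat.card F)) (hm : 3 ≤ m) (σ : F ≃+* F) :
    (Odd (orderOf σ) → Cfsg.splitClassCount (Cfsg.inndiagPOmegaOdd m F)
      (Cfsg.Inn (Cfsg.POmega F f⋆)) (oddFieldAut σ) = 1) ∧
    (orderOf σ = 2 → Cfsg.splitClassCount (Cfsg.inndiagPOmegaOdd m F)
      (Cfsg.Inn (Cfsg.POmega F f⋆)) (oddFieldAut σ) = 2) := by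
  have h2 := two_ne_zero_of_odd hodd
  haveI := AutPSL.inn_normal (Cfsg.POmega F f⋆)
  have hcomap : (Cfsg.Inn (Cfsg.POmega F f⋆)).comap soAut = omSO m F :=
    Subgroup.ext fun d => soAut_mem_inn_iff h2 hodd hm d
  haveI : (omSO m F).Normal := hcomap ▸ inferInstance
  have hmap : (omSO m F).map soAut = Cfsg.Inn (Cfsg.POmega F f⋆) := by
    rw [← hcomap, Subgroup.map_comap_eq, inf_eq_right.2 (inn_le_range h2 hodd hm)]
  have hidx : (omSO m F).index = 2 := by
    rw [← hcomap, ← Subgroup.relIndex_top_right, Subgroup.relIndex_comap, ← MonoidHom.range_eq_map]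
    exact relIndex_inn h2 hodd hm
  let C : Subgroup ↥(SOo m F) := (soMap σ).eqLocus (MonoidHom.id _)
  have key : Cfsg.splitClassCount (Cfsg.inndiagPOmegaOdd m F) (Cfsg.Inn (Cfsg.POmega F f⋆))
      (oddFieldAut σ) = (omSO m F ⊔ C).index := by
    rw [inndiag_eq h2, ← hmap]
    exact AutPSL.splitClassCount_eq_index soAut _ _ C fun d => ((mem_cent_odd h2 hm σ d).symm)
  let F₀ := ↥(fixedField σ)
  let e₀ : F₀ →+* F := (fixedField σ).subtype
  have he : ∀ a : F, σ a = a ↔ ∃ b, e₀ b = a :=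
    fun a => ⟨fun ha => ⟨⟨a, ha⟩, rfl⟩, by rintro ⟨b, rfl⟩; exact b.2⟩
  have h20 : (2 : F₀) ≠ 0 := fun h => h2 (congrArg Subtype.val h)
  have hodd₀ : Odd (Nat.card F₀) := by
    have := AutPSL.card_fixedField_pow σ
    rw [this] at hodd
    rcases Nat.even_or_odd (Nat.card F₀) with he' | ho
    · exact absurd hodd (Nat.not_odd_iff_even.2 (he'.pow_of_ne_zero (orderOf_pos_field σ).ne'))
    · exact ho
  obtain ⟨k, rfl⟩ : ∃ k, m = k + 3 := ⟨m - 3, by omega⟩
  obtain ⟨x, y, hx, hy, hxy⟩ := exists_nonsquare_pair (F := F₀) (m := k + 2) hodd₀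
  have hfx : Cfsg.quadFormOdd (k + 3) F (incV e₀ x) ≠ 0 := by
    rw [odd_inc]; exact fun h => hx (Subtype.ext h)
  have hfy : Cfsg.quadFormOdd (k + 3) F (incV e₀ y) ≠ 0 := by
    rw [odd_inc]; exact fun h => hy (Subtype.ext h)
  have hsq : Cfsg.quadFormOdd (k + 3) F (incV e₀ x) * Cfsg.quadFormOdd (k + 3) F (incV e₀ y) =
      e₀ (Cfsg.quadFormOdd (k + 3) F₀ x * Cfsg.quadFormOdd (k + 3) F₀ y) := by
    rw [map_mul, odd_inc, odd_inc]
  constructor
  · intro hr
    rw [key, Subgroup.index_eq_one]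
    have hz : reflPair (incV e₀ x) (incV e₀ y) hfx hfy ∉ omSO (k + 3) F := by
      rw [reflPair_mem_iff h2 hodd hm, hsq]
      intro hsqF
      -- a non-square of the fixed field stays a non-square in odd degree
      classical
      haveI := Fintype.ofFinite F
      haveI := Fintype.ofFinite F₀
      have hc0 : Cfsg.quadFormOdd (k + 3) F₀ x * Cfsg.quadFormOdd (k + 3) F₀ y ≠ 0 :=
        mul_ne_zero hx hy
      have hrc : ringChar F₀ ≠ 2 := fun h => h20 (by
        haveI : CharP F₀ 2 := h ▸ ringChar.charP F₀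
        exact CharTwo.two_eq_zero)
      have hrcF : ringChar F ≠ 2 := fun h => h2 (by
        haveI : CharP F 2 := h ▸ ringChar.charP F
        exact CharTwo.two_eq_zero)
      have h1 := (FiniteField.pow_dichotomy hrc hc0).resolve_left
        fun h => hxy ((FiniteField.isSquare_iff hrc hc0).2 h)
      rw [FiniteField.isSquare_iff hrcF (by simpa using hc0)] at hsqF
      set q := Fintype.card F₀ with hq
      have hcard : Fintype.card F = q ^ orderOf σ := by
        have := AutPSL.card_fixedField_pow σ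
        rwa [Nat.card_eq_fintype_card, Nat.card_eq_fintype_card, ← hq] at this
      have hqodd : Odd q := by
        rw [hq, ← Nat.card_eq_fintype_card]; exact hodd₀
      have hgeom : Fintype.card F / 2 = (q / 2) * ∑ i ∈ Finset.range (orderOf σ), q ^ i := by
        obtain ⟨j, hj⟩ := hqodd
        have h3 := geom_sum_mul_add (2 * j) (orderOf σ)
        rw [← hj] at h3
        rw [hcard, ← h3, show q / 2 = j by omega,
          show (∑ i ∈ Finset.range (orderOf σ), q ^ i) * (2 * j) + 1 =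
            2 * (j * ∑ i ∈ Finset.range (orderOf σ), q ^ i) + 1 by ring]
        omega
      have hsum : Odd (∑ i ∈ Finset.range (orderOf σ), q ^ i) := by
        rw [Finset.odd_sum_iff_odd_card_odd, Finset.filter_true_of_mem (fun i _ => hqodd.pow),
          Finset.card_range]
        exact hr
      rw [hgeom, pow_mul, ← map_pow] at hsqF
      rw [h1, map_neg, map_one, hsum.neg_one_pow] at hsqF
      exact h2 (by linear_combination -hsqF)
    have hzC : reflPair (incV e₀ x) (incV e₀ y) hfx hfy ∈ C := by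
      show soMap σ _ = _
      rw [← soIncl_reflPair e₀ x y hx hy hfx hfy, soMap_soIncl e₀ he]
      rfl
    refine eq_top_iff.2 fun d _ => ?_
    by_cases hd : d ∈ omSO (k + 3) F
    · exact Subgroup.mem_sup_left hd
    · have := (Subgroup.mul_mem_iff_of_index_two hidx (a := d)
        (b := reflPair (incV e₀ x) (incV e₀ y) hfx hfy)).2 (iff_of_false hd hz)
      rw [← mul_inv_cancel_right d (reflPair (incV e₀ x) (incV e₀ y) hfx hfy)]
      exact mul_mem (Subgroup.mem_sup_left this) (inv_mem (Subgroup.mem_sup_right hzC))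
  · intro hr
    rw [key, show omSO (k + 3) F ⊔ C = omSO (k + 3) F from sup_eq_left.2 ?_, hidx]
    intro d hd
    obtain ⟨d₀, rfl⟩ := exists_rational_so e₀ he hd
    by_cases h0 : d₀ ∈ omSO (k + 3) F₀
    · exact omSO_ext e₀ h0
    · have hz0 : reflPair x y hx hy ∉ omSO (k + 3) F₀ := fun h =>
        hxy ((reflPair_mem_iff h20 hodd₀ hm x y hx hy).1 h)
      have hidx₀ : (omSO (k + 3) F₀).index = 2 := by
        rw [← show (Cfsg.Inn (Cfsg.POmega F₀ (Cfsg.quadFormOdd (k + 3) F₀))).comap soAut =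
            omSO (k + 3) F₀ from Subgroup.ext fun d => soAut_mem_inn_iff h20 hodd₀ hm d,
          ← Subgroup.relIndex_top_right, Subgroup.relIndex_comap, ← MonoidHom.range_eq_map]
        exact relIndex_inn h20 hodd₀ hm
      have h1 := omSO_ext e₀ ((Subgroup.mul_mem_iff_of_index_two hidx₀ (a := d₀)
        (b := reflPair x y hx hy)).2 (iff_of_false h0 hz0))
      rw [map_mul, soIncl_reflPair e₀ x y hx hy hfx hfy] at h1
      have hz : reflPair (incV e₀ x) (incV e₀ y) hfx hfy ∈ omSO (k + 3) F := by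
        rw [reflPair_mem_iff h2 hodd hm, hsq]
        exact isSquare_of_fixed σ hr ((he _).2 ⟨_, rfl⟩)
      exact (Subgroup.mul_mem_cancel_right _ hz).1 h1

theorem field_class_odd (hodd : Odd (Nat.card F)) (hm : 3 ≤ m) {x : A⋆}
    (hx : Cfsg.IsFieldAutClassPOmega f⋆ x) {p f r : ℕ} [Fact p.Prime] (hF : Nat.card F = p ^ f)
    (hxr : orderOf x = r) (F₀ : Type v) [Field F₀] [Finite F₀]
    (hF₀ : Nat.card F₀ = p ^ (f / r)) :
    r ∣ f ∧ Nonempty (↥(Cfsg.inndiagPOmegaOdd m F ⊓ Subgroup.centralizer {x}) ≃*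
        ↥(Cfsg.inndiagPOmegaOdd m F₀)) ∧
      (Odd r → Cfsg.splitClassCount (Cfsg.inndiagPOmegaOdd m F)
        (Cfsg.Inn (Cfsg.POmega F f⋆)) x = 1) ∧
      (r = 2 → Cfsg.splitClassCount (Cfsg.inndiagPOmegaOdd m F)
        (Cfsg.Inn (Cfsg.POmega F f⋆)) x = 2) := by
  have h2 := two_ne_zero_of_odd hodd
  haveI := inndiag_normal (F := F) h2 hm
  haveI := AutPSL.inn_normal (Cfsg.POmega F f⋆)
  obtain ⟨α, σ, hα, -, hσ⟩ := field_std_odd h2 hm hx
  obtain ⟨hrf, hcard⟩ := AutPSL.fixedField_exponent σ hF (hσ.trans hxr)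
  obtain ⟨e, he⟩ := AutPSL.exists_embedding σ F₀ (hF₀.trans hcard.symm)
  obtain ⟨E⟩ := field_centralizer_odd h2 hm σ e he
  obtain ⟨s1, s2⟩ := field_split_odd hodd hm σ
  rw [hσ.trans hxr] at s1 s2
  refine ⟨hrf, ⟨(AutPSL.centEquiv _ α x).trans ((MulEquiv.subgroupCongr (by rw [hα])).trans E)⟩,
    fun h => ?_, fun h => ?_⟩
  · rw [← AutPSL.splitClassCount_conj _ _ α x, hα]; exact s1 h
  · rw [← AutPSL.splitClassCount_conj _ _ α x, hα]; exact s2 h

end Cfsg.Agent.OutPO
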